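import Groth.Agent.Lib.KoszulPoly9.Main
import Groth.Agent.Lib.KoszulLim.Compare
import Groth.Agent.Lib.Gor.Hull
import Groth.Prelude.Def_Wider

/-! # The top Čech cokernel is the injective hull -/

set_option autoImplicit false
set_option maxHeartbeats 1000000
universe u

open CategoryTheory CategoryTheory.Limits

noncomputable section

namespace Groth.Agent.CechHull29

open GrothLib GrothLib.KoszulPoly9 CohIII CochainComplex GrothLib.KoszulMod GrothLib.KoszulLim

variable {A : Type u} [CommRing A]

theorem cls_eq_zero (fs : List A) {p : ℕ} (hp : p = fs.length) (M : ModuleCat.{u} A) (n : ℕ) (s : M)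
    (hs : s ∈ Ideal.ofList (fs.map (· ^ n)) • (⊤ : Submodule A M)) : cls M fs hp n s = 0 := by
  rw [← top_range M n fs (deg fs p - 1) (deg fs p) (deg_eq_zero fs hp) (by ring)] at hs
  obtain ⟨w, hw⟩ := hs
  show Module.DirectLimit.of A ℕ _ (sys fs M p) n
    (((kp M fs n).homologyπ (deg fs p)).hom ((topCycles M fs hp n).symm s)) = 0
  have h0 : ((kp M fs n).homologyπ (deg fs p)).hom ((topCycles M fs hp n).symm s) = 0 := by
    refine (π_eq_zero_iff (show deg fs p - 1 + 1 = deg fs p by ring) _).2 ⟨w, ?_⟩
    apply (top_bijective M n fs (deg fs p) (deg_eq_zero fs hp)).1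
    refine Eq.trans ?_ ((topCycles M fs hp n).apply_symm_apply s).symm
    exact hw
  erw [h0]
  exact map_zero _

variable {d : ℕ} (x : Fin d → A)

/-- The submodule of fractions coming from the partial products. -/
def sigma : Submodule A (Localization.Away (∏ i, x i)) :=
  Submodule.span A {y : Localization.Away (∏ i, x i) | ∃ (i : Fin d) (n : ℕ),
    y = algebraMap A (Localization.Away (∏ i, x i)) (x i ^ n) * IsLocalization.Away.invSelf (∏ i, x i) ^ n}

local notation "Rt" => Localization.Away (∏ i, x i)
local notation "t" => (∏ i, x i)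
local notation "fs" => List.ofFn x

theorem prod_pow (k : ℕ) : ((fs).map (· ^ k)).prod = t ^ k := by
  rw [List.map_ofFn, List.prod_ofFn]
  exact Finset.prod_pow _ _ _

theorem ofList_pow (k : ℕ) :
    Ideal.ofList ((fs).map (· ^ k)) • (⊤ : Submodule A (ModuleCat.of A A)) =
      (Ideal.span (Set.range fun i => x i ^ k) : Ideal A) := by
  show Ideal.ofList ((fs).map (· ^ k)) • (⊤ : Submodule A A) = _
  rw [smul_eq_mul, Ideal.mul_top]
  refine congrArg Ideal.span (Set.ext fun y => ?_)
  simp [List.mem_ofFn, eq_comm]

/-- The value of a fraction. -/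
def val (s : A) (n : ℕ) : Rt := algebraMap A Rt s * IsLocalization.Away.invSelf t ^ n

theorem val_mul (s : A) (n k : ℕ) : val x (t ^ k * s) (n + k) = val x s n := by
  have h : algebraMap A Rt t * IsLocalization.Away.invSelf t = 1 := IsLocalization.Away.mul_invSelf t
  calc algebraMap A Rt (t ^ k * s) * IsLocalization.Away.invSelf t ^ (n + k)
      = (algebraMap A Rt t * IsLocalization.Away.invSelf t) ^ k *
          (algebraMap A Rt s * IsLocalization.Away.invSelf t ^ n) := by
        rw [map_mul, map_pow, pow_add, mul_pow]; ring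
    _ = _ := by rw [h, one_pow, one_mul]; rfl

theorem exists_val (z : Rt) : ∃ n s, val x s n = z := by
  obtain ⟨n, s, hs⟩ := IsLocalization.Away.surj t z
  refine ⟨n, s, ?_⟩
  have h : algebraMap A Rt t * IsLocalization.Away.invSelf t = 1 := IsLocalization.Away.mul_invSelf t
  rw [val, ← hs, mul_assoc, ← mul_pow, h, one_pow, mul_one]

local notation "H" => CohIII.koszulHLim fs (ModuleCat.of A A) d

theorem len : d = (fs).length := List.length_ofFn.symm

/-- The class map on pairs. -/
def c (s : A) (n : ℕ) : H := cls (ModuleCat.of A A) fs (len x) n s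

theorem c_mul (s : A) (n k : ℕ) : c x (t ^ k * s) (n + k) = c x s n := by
  have := cls_compat (ModuleCat.of A A) fs (len x) (Nat.le_add_right n k) (s : A)
  rw [Nat.add_sub_cancel_left, prod_pow] at this
  exact this

theorem c_congr {s s' : A} {n n' : ℕ} (h : val x s n = val x s' n') : c x s n = c x s' n' := by
  have hinv : algebraMap A Rt t * IsLocalization.Away.invSelf t = 1 := IsLocalization.Away.mul_invSelf t
  have h' : algebraMap A Rt (t ^ n' * s) = algebraMap A Rt (t ^ n * s') := by
    have e := congrArg (· * algebraMap A Rt (t ^ (n + n'))) h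
    simp only [val] at e
    have e1 : ∀ (a : A) (m m' : ℕ), algebraMap A Rt a * IsLocalization.Away.invSelf t ^ m *
        algebraMap A Rt (t ^ (m + m')) = algebraMap A Rt (t ^ m' * a) := fun a m m' => by
      rw [map_pow, map_mul, map_pow, pow_add]
      calc _ = (algebraMap A Rt t * IsLocalization.Away.invSelf t) ^ m *
            (algebraMap A Rt t ^ m' * algebraMap A Rt a) := by rw [mul_pow]; ring
        _ = _ := by rw [hinv, one_pow, one_mul]
    rw [e1, add_comm n n', e1] at e
    exact e
  obtain ⟨⟨_, k, rfl⟩, hk⟩ := IsLocalization.exists_of_eq (M := Submonoid.powers t) h'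
  simp only at hk
  rw [← c_mul x s n (n' + k), ← c_mul x s' n' (n + k), show n + (n' + k) = n' + (n + k) by omega]
  congr 1
  rw [pow_add, pow_add, mul_comm (t ^ n'), mul_comm (t ^ n), mul_assoc, mul_assoc]
  exact hk

/-- The comparison map. -/
def φ : Rt →ₗ[A] H where
  toFun z := c x (exists_val x z).choose_spec.choose (exists_val x z).choose
  map_add' z z' := by
    obtain ⟨n, s, rfl⟩ := exists_val x z
    obtain ⟨n', s', rfl⟩ := exists_val x z'
    have e : val x (t ^ n' * s + t ^ n * s') (n + n') = val x s n + val x s' n' := by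
      rw [← val_mul x s n n', ← val_mul x s' n' n, add_comm n' n]
      simp only [val, map_add, add_mul]
    rw [c_congr x ((exists_val x (val x s n + val x s' n')).choose_spec.choose_spec.trans e.symm),
      c_congr x (exists_val x (val x s n)).choose_spec.choose_spec,
      c_congr x (exists_val x (val x s' n')).choose_spec.choose_spec,
      ← c_mul x s n n', ← c_mul x s' n' n, add_comm n' n]
    exact map_add (cls (ModuleCat.of A A) fs (len x) (n + n')) _ _
  map_smul' r z := by
    obtain ⟨n, s, rfl⟩ := exists_val x z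
    have e : val x (r * s) n = r • val x s n := by
      rw [val, val, Algebra.smul_def, map_mul, mul_assoc]
    rw [c_congr x ((exists_val x (r • val x s n)).choose_spec.choose_spec.trans e.symm),
      c_congr x (exists_val x (val x s n)).choose_spec.choose_spec]
    exact map_smul (cls (ModuleCat.of A A) fs (len x) n) r s

theorem φ_val (s : A) (n : ℕ) : φ x (val x s n) = c x s n :=
  c_congr x (exists_val x (val x s n)).choose_spec.choose_spec

theorem φ_surjective : Function.Surjective (φ x) := fun h => by
  obtain ⟨n, s, hs⟩ := exists_cls (ModuleCat.of A A) fs (len x) h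
  exact ⟨val x s n, (φ_val x s n).trans hs⟩

theorem ker_φ : LinearMap.ker (φ x) = sigma x := by
  refine le_antisymm (fun z hz => ?_) (Submodule.span_le.2 ?_)
  · obtain ⟨n, s, rfl⟩ := exists_val x z
    rw [LinearMap.mem_ker, φ_val] at hz
    obtain ⟨m, hnm, hm⟩ := exists_of_cls_eq_zero (ModuleCat.of A A) fs (len x) hz
    rw [prod_pow, ofList_pow] at hm
    have hm' : t ^ (m - n) * s ∈ Ideal.span (Set.range fun i => x i ^ m) := hm
    rw [← val_mul x s n (m - n), Nat.add_sub_cancel' hnm]
    obtain ⟨a, ha⟩ := Ideal.mem_span_range_iff_exists_fun.1 hm'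
    have e : val x (t ^ (m - n) * s) m = ∑ i, a i • val x (x i ^ m) m := by
      simp only [val, Algebra.smul_def, ← ha, map_sum, Finset.sum_mul, map_mul, mul_assoc]
    rw [e]
    exact Submodule.sum_mem _ fun i _ => Submodule.smul_mem _ _ (Submodule.subset_span ⟨i, m, rfl⟩)
  · rintro _ ⟨i, n, rfl⟩
    rw [SetLike.mem_coe, LinearMap.mem_ker]
    show φ x (val x (x i ^ n) n) = 0
    rw [φ_val]
    refine cls_eq_zero fs (len x) (ModuleCat.of A A) n _ ?_
    rw [ofList_pow]
    exact Ideal.subset_span ⟨i, rfl⟩

/-- The cokernel is the Koszul limit. -/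
def equiv : (Rt ⧸ sigma x) ≃ₗ[A] H :=
  (Submodule.quotEquivOfEq _ _ (ker_φ x).symm).trans
    (LinearMap.quotKerEquivOfSurjective (φ x) (φ_surjective x))

theorem nonempty_equiv_H [IsNoetherianRing A] (I : Ideal A)
    (hx : (Ideal.span (Set.range x)).radical = I.radical) :
    Nonempty ((Rt ⧸ sigma x) ≃ₗ[A] LocCoh.H I d A) := by
  obtain ⟨e⟩ := KoszulLim.nonempty_TK_equiv fs d (ModuleCat.of A A)
  have hspan : Ideal.span {a | a ∈ fs} = Ideal.span (Set.range x) :=
    congrArg Ideal.span (Set.ext fun y => List.mem_ofFn)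
  let i := (localCohomology.isoOfSameRadical
    (J := Ideal.span {a | a ∈ fs}) (K := I) (by rw [hspan, hx]) d).app (ModuleCat.of A A)
  exact ⟨(equiv x).trans (LinearEquiv.trans e i.toLinearEquiv)⟩

end Groth.Agent.CechHull29
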